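import Mathlib.Algebra.Homology.Embedding.CochainComplex
import Mathlib.Algebra.Homology.Embedding.ExtendHomology
import Mathlib.Algebra.Homology.Refinements

/-!
Resolutions of bounded below complexes whose cohomology lies in a thick class `P`, by a class `J ≤ P`
such that monomorphisms out of objects of `P` can be pushed into mono maps to objects of `J`.
-/

set_option autoImplicit false
set_option backward.isDefEq.respectTransparency false
set_option backward.isDefEq.respectTransparency.types false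

universe v u

open CategoryTheory CategoryTheory.Limits HomologicalComplex

namespace Groth.Agent.SubRes8

variable {A : Type u} [Category.{v} A] [Abelian A]

/-- The hypotheses on the two classes. -/
structure Setup (P J : A → Prop) : Prop where
  iso : ∀ ⦃X Y : A⦄, (X ≅ Y) → P X → P Y
  coker : ∀ ⦃X Y : A⦄ (f : X ⟶ Y), P X → P Y → P (cokernel f)
  ext : ∀ S : ShortComplex A, S.ShortExact → P S.X₁ → P S.X₃ → P S.X₂
  le : ∀ ⦃X : A⦄, J X → P X
  emb : ∀ ⦃Q' Q : A⦄ (i : Q' ⟶ Q), Mono i → P Q' → ∃ (Y : A) (j : Q ⟶ Y), J Y ∧ Mono (i ≫ j)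
  zero : ∃ Z : A, IsZero Z ∧ J Z

variable {P J : A → Prop} (h : Setup P J)

section nat

variable (K : CochainComplex A ℕ)

/-- One stage. -/
structure Stage (k : ℕ) where
  /-- previous term -/
  Y : A
  /-- new term -/
  L : A
  /-- comparison map -/
  f : K.X k ⟶ L
  /-- differential -/
  δ : Y ⟶ L
  mem : J L
  memY : J Y
  bdry : K.d (k - 1) k ≫ f ≫ cokernel.π δ = 0
  inv : ∀ ⦃W : A⦄ (x : W ⟶ K.X k) (y : W ⟶ Y), x ≫ K.d k (k + 1) = 0 → x ≫ f = y ≫ δ →
    ∃ (W' : A) (p : W' ⟶ W) (_ : Epi p) (x' : W' ⟶ K.X (k - 1)), p ≫ x = x' ≫ K.d (k - 1) k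

variable {K}

variable {k : ℕ} (s : Stage (J := J) K k)

/-- The relations. -/
noncomputable def Stage.rel : s.Y ⊞ K.X k ⟶ s.L ⊞ K.X (k + 1) :=
  biprod.desc (s.δ ≫ biprod.inl) (s.f ≫ biprod.inl - K.d k (k + 1) ≫ biprod.inr)

/-- The relations, on cycles. -/
noncomputable def Stage.rel' : s.Y ⊞ K.X k ⟶ s.L ⊞ K.cycles (k + 1) :=
  biprod.desc (s.δ ≫ biprod.inl) (s.f ≫ biprod.inl - K.toCycles k (k + 1) ≫ biprod.inr)

theorem Stage.exists_of_eq {W : A} (l : W ⟶ s.L) (x' : W ⟶ K.X (k + 1))
    (h : (l ≫ biprod.inl + x' ≫ biprod.inr) ≫ cokernel.π s.rel = 0) :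
    ∃ (W' : A) (p : W' ⟶ W) (_ : Epi p) (y : W' ⟶ s.Y) (x : W' ⟶ K.X k),
      p ≫ l = y ≫ s.δ + x ≫ s.f ∧ p ≫ x' = -(x ≫ K.d k (k + 1)) := by
  obtain ⟨W', p, hp, w, hw⟩ :=
    (ShortComplex.exact_cokernel s.rel).exact_up_to_refinements _ h
  dsimp at hw
  refine ⟨W', p, hp, w ≫ biprod.fst, w ≫ biprod.snd, ?_, ?_⟩
  · have := hw =≫ biprod.fst
    simp only [Preadditive.comp_add, Category.assoc, biprod.inl_fst, biprod.inr_fst,
      Category.comp_id, comp_zero, add_zero, Preadditive.add_comp] at this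
    rw [this, Category.assoc, Category.assoc, ← Preadditive.comp_add]
    congr 1
    ext <;> simp [Stage.rel]
  · have := hw =≫ biprod.snd
    simp only [Preadditive.comp_add, Category.assoc, biprod.inl_snd, biprod.inr_snd,
      Category.comp_id, comp_zero, zero_add, Preadditive.add_comp] at this
    rw [this, Category.assoc, ← Preadditive.comp_neg]
    congr 1
    ext <;> simp [Stage.rel]

/-- The comparison of the two quotients. -/
noncomputable def Stage.m : cokernel s.rel' ⟶ cokernel s.rel :=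
  cokernel.map _ _ (𝟙 _) (biprod.map (𝟙 _) (K.iCycles (k + 1))) (by ext <;> simp [Stage.rel', Stage.rel])

theorem Stage.π_m {W : A} (l : W ⟶ s.L) (c : W ⟶ K.cycles (k + 1)) :
    (l ≫ biprod.inl + c ≫ biprod.inr) ≫ cokernel.π s.rel' ≫ s.m =
      (l ≫ biprod.inl + (c ≫ K.iCycles _) ≫ biprod.inr) ≫ cokernel.π s.rel := by
  simp [Stage.m]

instance : Mono s.m := by
  rw [Preadditive.mono_iff_cancel_zero]
  intro W z hz
  obtain ⟨W₁, p, hp, w, hw⟩ := surjective_up_to_refinements_of_epi (cokernel.π s.rel') z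
  have hw' : w = (w ≫ biprod.fst) ≫ biprod.inl + (w ≫ biprod.snd) ≫ biprod.inr := by
    simp [← Preadditive.comp_add, biprod.total]
  have h1 : ((w ≫ biprod.fst) ≫ biprod.inl + ((w ≫ biprod.snd) ≫ K.iCycles _) ≫ biprod.inr) ≫
      cokernel.π s.rel = 0 := by
    rw [← s.π_m, ← hw', ← Category.assoc, ← hw, Category.assoc, hz, comp_zero]
  obtain ⟨W₂, q, hq, y, x, e1, e2⟩ := s.exists_of_eq _ _ h1
  have e3 : q ≫ w ≫ biprod.snd = -(x ≫ K.toCycles k (k + 1)) := by
    rw [← cancel_mono (K.iCycles (k + 1))]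
    simpa using e2
  have e4 : q ≫ w = biprod.lift y x ≫ s.rel' := by
    apply biprod.hom_ext
    · simpa [Stage.rel'] using e1
    · simpa [Stage.rel'] using e3
  rw [← cancel_epi (q ≫ p), comp_zero, Category.assoc, hw, reassoc_of% e4, cokernel.condition, comp_zero]

include h

theorem Stage.mem_quot (hK : P (K.homology k)) (hK' : P (K.homology (k + 1))) :
    P (cokernel s.rel') := by
  let g₀ : K.cycles k ⟶ cokernel s.δ := K.iCycles k ≫ s.f ≫ cokernel.π s.δ
  let g : K.homology k ⟶ cokernel s.δ :=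
    ((K.homologyIsCokernel (k - 1) k (by cases k <;> simp)).desc (CokernelCofork.ofπ g₀ (by
      simp only [g₀, toCycles_i_assoc]; exact s.bdry)))
  have hg : K.homologyπ k ≫ g = g₀ :=
    (K.homologyIsCokernel (k - 1) k (by cases k <;> simp)).fac _ WalkingParallelPair.one
  have hC : P (cokernel g₀) := h.iso (cokernelIsoOfEq hg) (h.iso (cokernelEpiComp _ _).symm
    (h.coker g hK (h.coker s.δ (h.le s.memY) (h.le s.mem))))
  let a₀ : cokernel s.δ ⟶ cokernel s.rel' := cokernel.desc _ (biprod.inl ≫ cokernel.π s.rel') (by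
    have : s.δ ≫ biprod.inl = biprod.inl ≫ s.rel' := by simp [Stage.rel']
    rw [reassoc_of% this, cokernel.condition, comp_zero])
  have hinr : biprod.inr ≫ s.rel' = s.f ≫ biprod.inl - K.toCycles k (k + 1) ≫ biprod.inr := by
    simp [Stage.rel']
  let a : cokernel g₀ ⟶ cokernel s.rel' := cokernel.desc _ a₀ (by
    simp only [g₀, a₀, Category.assoc, cokernel.π_desc]
    have h0 : K.iCycles k ≫ biprod.inr ≫ s.rel' = K.iCycles k ≫ s.f ≫ biprod.inl := by
      rw [hinr, Preadditive.comp_sub, ← Category.assoc (K.iCycles k) (K.toCycles k (k + 1))]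
      have : K.iCycles k ≫ K.toCycles k (k + 1) = 0 := by
        rw [← cancel_mono (K.iCycles (k + 1))]; simp
      rw [this, zero_comp, sub_zero]
    rw [← reassoc_of% h0, cokernel.condition]
    simp)
  have hbrel : s.rel' ≫ biprod.snd ≫ K.homologyπ (k + 1) = 0 := by
    ext <;> simp [Stage.rel', toCycles_comp_homologyπ]
  let b : cokernel s.rel' ⟶ K.homology (k + 1) := cokernel.desc _ (biprod.snd ≫ K.homologyπ (k + 1)) hbrel
  have hab : a ≫ b = 0 := by
    rw [← cancel_epi (cokernel.π g₀), ← cancel_epi (cokernel.π s.δ)]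
    simp [a, a₀, b]
  haveI : Epi b := epi_of_epi_fac (cokernel.π_desc _ _ _ : cokernel.π s.rel' ≫ b = _)
  have ha : ∀ {W : A} (l : W ⟶ s.L), l ≫ cokernel.π s.δ ≫ cokernel.π g₀ ≫ a = l ≫ biprod.inl ≫ cokernel.π s.rel' :=
    fun l => by simp [a, a₀]
  haveI : Mono a := by
    rw [Preadditive.mono_iff_cancel_zero]
    intro W z hz
    obtain ⟨W₁, p, hp, l, hl⟩ := surjective_up_to_refinements_of_epi (cokernel.π s.δ ≫ cokernel.π g₀) z
    have h1 : l ≫ biprod.inl ≫ cokernel.π s.rel' = 0 := by
      rw [← ha l, ← reassoc_of% hl, hz, comp_zero]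
    rw [← Category.assoc] at h1
    obtain ⟨W₂, q, hq, w, hw⟩ := (ShortComplex.exact_cokernel s.rel').exact_up_to_refinements _ h1
    dsimp at hw
    have hr : s.rel' ≫ biprod.snd = -(biprod.snd ≫ K.toCycles k (k + 1)) := by ext <;> simp [Stage.rel']
    have hr' : s.rel' ≫ biprod.fst = biprod.fst ≫ s.δ + biprod.snd ≫ s.f := by ext <;> simp [Stage.rel']
    have e2 := hw =≫ biprod.snd
    simp only [Category.assoc, biprod.inl_snd, comp_zero, hr, Preadditive.comp_neg] at e2
    have e2' : w ≫ biprod.snd ≫ K.d k (k + 1) = 0 := by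
      have := (eq_comm.1 e2) =≫ K.iCycles (k + 1)
      simpa using this
    have e1 := hw =≫ biprod.fst
    simp only [Category.assoc, biprod.inl_fst, Category.comp_id, hr', Preadditive.comp_add] at e1
    let c := K.liftCycles (w ≫ biprod.snd) (k + 1) (by simp) (by rw [Category.assoc, e2'])
    have hc : w ≫ biprod.snd ≫ s.f ≫ cokernel.π s.δ = c ≫ g₀ := by simp [c, g₀]
    rw [← cancel_epi (q ≫ p), comp_zero, Category.assoc, hl, reassoc_of% e1,
      Preadditive.add_comp]
    have z1 : (w ≫ biprod.fst ≫ s.δ) ≫ cokernel.π s.δ ≫ cokernel.π g₀ = 0 := by simp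
    rw [z1, zero_add, Category.assoc, Category.assoc, reassoc_of% hc, cokernel.condition, comp_zero]
  have hex : (ShortComplex.mk a b hab).Exact := by
    rw [ShortComplex.exact_iff_exact_up_to_refinements]
    intro W z hz
    dsimp at z hz ⊢
    obtain ⟨W₁, p, hp, w, hw⟩ := surjective_up_to_refinements_of_epi (cokernel.π s.rel') z
    have h1 : (w ≫ biprod.snd) ≫ K.homologyπ (k + 1) = 0 := by
      have e : p ≫ z ≫ b = w ≫ biprod.snd ≫ K.homologyπ (k + 1) := by
        rw [reassoc_of% hw]; simp [b]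
      rw [hz, comp_zero] at e
      rw [Category.assoc]; exact e.symm
    obtain ⟨W₂, q, hq, x, hx⟩ := (ShortComplex.exact_of_g_is_cokernel
      (ShortComplex.mk _ _ (K.toCycles_comp_homologyπ k (k + 1)))
      (K.homologyIsCokernel k (k + 1) (by simp))).exact_up_to_refinements _ h1
    dsimp at hx
    refine ⟨W₂, q ≫ p, inferInstance, (q ≫ w ≫ biprod.fst + x ≫ s.f) ≫ cokernel.π s.δ ≫ cokernel.π g₀, ?_⟩
    rw [Category.assoc, hw, Category.assoc, Category.assoc, ha]
    have h0 : x ≫ s.f ≫ biprod.inl ≫ cokernel.π s.rel' =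
        (x ≫ K.toCycles k (k + 1)) ≫ biprod.inr ≫ cokernel.π s.rel' := by
      have := x ≫= (hinr =≫ cokernel.π s.rel')
      simp only [Category.assoc, cokernel.condition, comp_zero, Preadditive.sub_comp,
        Preadditive.comp_sub] at this
      rw [Category.assoc]; exact sub_eq_zero.1 this.symm
    rw [Preadditive.add_comp, Category.assoc, Category.assoc, Category.assoc, h0, ← hx]
    simp only [← Category.assoc, ← Preadditive.add_comp]
    congr 1
    simp [← Preadditive.comp_add, biprod.total]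
  exact h.ext (ShortComplex.mk a b hab)
    { exact := hex, mono_f := inferInstance, epi_g := inferInstance } hC hK'

variable (hK : ∀ i, P (K.homology i))
include hK

/-- The next envelope. -/
theorem Stage.exists_emb : ∃ (Y : A) (j : cokernel s.rel ⟶ Y), J Y ∧ Mono (s.m ≫ j) :=
  h.emb s.m inferInstance (s.mem_quot h (hK k) (hK (k + 1)))

/-- Chosen target. -/
noncomputable def Stage.env : A := (s.exists_emb h hK).choose

/-- Chosen map. -/
noncomputable def Stage.j : cokernel s.rel ⟶ s.env h hK := (s.exists_emb h hK).choose_spec.choose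

theorem Stage.exists_of_eq' {W : A} (l : W ⟶ s.L) (x' : W ⟶ K.X (k + 1))
    (hx : x' ≫ K.d (k + 1) (k + 2) = 0)
    (he : (l ≫ biprod.inl + x' ≫ biprod.inr) ≫ cokernel.π s.rel ≫ s.j h hK = 0) :
    ∃ (W' : A) (p : W' ⟶ W) (_ : Epi p) (y : W' ⟶ s.Y) (x : W' ⟶ K.X k),
      p ≫ l = y ≫ s.δ + x ≫ s.f ∧ p ≫ x' = -(x ≫ K.d k (k + 1)) := by
  haveI : Mono (s.m ≫ s.j h hK) := (s.exists_emb h hK).choose_spec.choose_spec.2
  let c := K.liftCycles x' (k + 2) (by simp) hx
  have h1 : ((l ≫ biprod.inl + c ≫ biprod.inr) ≫ cokernel.π s.rel') ≫ (s.m ≫ s.j h hK) = 0 := by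
    rw [Category.assoc, ← Category.assoc (cokernel.π s.rel'), ← Category.assoc, s.π_m]
    simpa [c] using he
  have h2 := zero_of_comp_mono _ h1
  refine s.exists_of_eq l x' ?_
  have h3 := h2 =≫ s.m
  rw [Category.assoc, s.π_m, zero_comp] at h3
  simpa [c] using h3

/-- The next stage. -/
noncomputable def Stage.next : Stage (J := J) K (k + 1) where
  Y := s.L
  L := s.env h hK
  f := biprod.inr ≫ cokernel.π s.rel ≫ s.j h hK
  δ := biprod.inl ≫ cokernel.π s.rel ≫ s.j h hK
  mem := (s.exists_emb h hK).choose_spec.choose_spec.1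
  memY := s.mem
  bdry := by
    have h0 : biprod.inr ≫ s.rel = s.f ≫ biprod.inl - K.d k (k + 1) ≫ biprod.inr := by simp [Stage.rel]
    have h1 : K.d k (k + 1) ≫ biprod.inr ≫ cokernel.π s.rel ≫ s.j h hK =
        s.f ≫ biprod.inl ≫ cokernel.π s.rel ≫ s.j h hK := by
      have := h0 =≫ (cokernel.π s.rel ≫ s.j h hK)
      simp only [Category.assoc, cokernel.condition_assoc, zero_comp, comp_zero, Preadditive.sub_comp] at this
      exact (sub_eq_zero.1 this.symm).symm
    show K.d k (k + 1) ≫ (biprod.inr ≫ cokernel.π s.rel ≫ s.j h hK) ≫ cokernel.π _ = 0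
    exact (Category.assoc _ _ _).symm.trans ((h1 =≫ _).trans ((Category.assoc _ _ _).trans
      ((congrArg (s.f ≫ ·) (cokernel.condition _)).trans comp_zero)))
  inv W x y hx hxy := by
    obtain ⟨W', p, hp, y', x', -, h2⟩ := s.exists_of_eq' h hK (-y) x hx (by
      simp only [Preadditive.add_comp, Preadditive.neg_comp, Category.assoc]
      rw [hxy]; simp)
    exact ⟨W', p, hp, -x', by simpa using h2⟩

theorem exists_zero :
    ∃ (Y : A) (j : K.X 0 ⟶ Y), J Y ∧ Mono (K.iCycles 0 ≫ j) :=
  h.emb (K.iCycles 0) inferInstance (h.iso (asIso (K.homologyπ 0)).symm (hK 0))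

/-- The zeroth stage. -/
noncomputable def stageZero : Stage (J := J) K 0 where
  Y := (exists_zero h hK).choose
  L := (exists_zero h hK).choose
  f := (exists_zero h hK).choose_spec.choose
  δ := 0
  mem := (exists_zero h hK).choose_spec.choose_spec.1
  memY := (exists_zero h hK).choose_spec.choose_spec.1
  bdry := by simp
  inv W x y hx hxy := by
    haveI := (exists_zero h hK).choose_spec.choose_spec.2
    refine ⟨W, 𝟙 W, inferInstance, 0, ?_⟩
    let c := K.liftCycles x 1 (by simp) hx
    have : c ≫ (K.iCycles 0 ≫ (exists_zero h hK).choose_spec.choose) = 0 := by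
      rw [K.liftCycles_i_assoc, hxy, comp_zero]
    have hc := zero_of_comp_mono _ this
    have := hc =≫ K.iCycles 0
    simpa [c] using this

/-- All stages. -/
noncomputable def stage : (k : ℕ) → Stage (J := J) K k
  | 0 => stageZero h hK
  | k + 1 => (stage k).next h hK

/-- The resolution. -/
noncomputable def res : CochainComplex A ℕ :=
  CochainComplex.of (fun k => (stage h hK k).L) (fun k => (stage h hK (k + 1)).δ) (fun k => by
    have h0 : biprod.inl ≫ (stage h hK (k + 1)).rel =
        (stage h hK (k + 1)).δ ≫ biprod.inl := by simp [Stage.rel]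
    change (stage h hK (k + 1)).δ ≫ biprod.inl ≫ cokernel.π _ ≫ _ = 0
    rw [← reassoc_of% h0]
    erw [cokernel.condition_assoc]
    simp)

theorem res_d (j : ℕ) : (res h hK).d j (j + 1) = (stage h hK (j + 1)).δ := by
  simp [res]

/-- The map to the resolution. -/
noncomputable def resι : K ⟶ res h hK where
  f k := (stage h hK k).f
  comm' j l hkl := by
    obtain rfl : j + 1 = l := hkl
    rw [res_d]
    change (stage h hK j).f ≫ biprod.inl ≫ cokernel.π (stage h hK j).rel ≫ _ =
      K.d j (j + 1) ≫ biprod.inr ≫ cokernel.π (stage h hK j).rel ≫ _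
    have h0 : biprod.inr ≫ (stage h hK j).rel =
        (stage h hK j).f ≫ biprod.inl - K.d j (j + 1) ≫ biprod.inr := by simp [Stage.rel]
    rw [← sub_eq_zero, ← Category.assoc, ← Category.assoc (K.d j (j + 1)),
      ← Preadditive.sub_comp, ← h0, Category.assoc, cokernel.condition_assoc]
    simp

theorem res_mem (j : ℕ) : J ((res h hK).X j) := (stage h hK j).mem

theorem quasiIso_resι : QuasiIso (resι h hK) := by
  constructor
  intro j
  rw [quasiIsoAt_iff_isIso_homologyMap]
  have key : ∀ (i : ℕ) ⦃W : A⦄ (y : W ⟶ (res h hK).X i) (_ : y ≫ (res h hK).d i (i + 1) = 0),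
      ∃ (W' : A) (p : W' ⟶ W) (_ : Epi p) (y' : W' ⟶ (stage h hK i).Y) (x' : W' ⟶ K.X i),
        x' ≫ K.d i (i + 1) = 0 ∧ p ≫ y = x' ≫ (stage h hK i).f + y' ≫ (stage h hK i).δ := by
    intro i W y hy
    rw [res_d] at hy
    obtain ⟨W', p, hp, y', x', h1, h2⟩ := (stage h hK i).exists_of_eq' h hK y 0 zero_comp (by
      rw [zero_comp, add_zero, Category.assoc]; exact hy)
    exact ⟨W', p, hp, y', x', by simpa using h2.symm, h1.trans (add_comm _ _)⟩
  cases j with
  | zero =>
    have h0 : (res h hK).d 0 0 = 0 := HomologicalComplex.shape _ _ _ (by simp)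
    have hepi : Epi (HomologicalComplex.homologyMap (resι h hK) 0) := by
      rw [HomologicalComplex.epi_homologyMap_iff_up_to_refinements _ 0 0 1 (by simp) (by simp)]
      intro W y hy
      obtain ⟨W', p, hp, y', x', hx', e⟩ := key 0 y hy
      exact ⟨W', p, hp, x', hx', 0, e.trans (congrArg (x' ≫ (stage h hK 0).f + ·)
        ((show y' ≫ (stage h hK 0).δ = 0 from comp_zero).trans zero_comp.symm))⟩
    have hmono : Mono (HomologicalComplex.homologyMap (resι h hK) 0) := by
      rw [HomologicalComplex.mono_homologyMap_iff_up_to_refinements _ 0 0 1 (by simp) (by simp)]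
      intro W x hx y hy
      rw [h0, comp_zero] at hy
      obtain ⟨W', p, hp, x', hx'⟩ := (stage h hK 0).inv x 0 hx (hy.trans zero_comp.symm)
      exact ⟨W', p, hp, x', hx'⟩
    exact isIso_of_mono_of_epi _
  | succ j =>
    have hepi : Epi (HomologicalComplex.homologyMap (resι h hK) (j + 1)) := by
      rw [HomologicalComplex.epi_homologyMap_iff_up_to_refinements _ j (j + 1) (j + 2) (by simp)
        (by simp)]
      intro W y hy
      obtain ⟨W', p, hp, y', x', hx', e⟩ := key (j + 1) y hy
      exact ⟨W', p, hp, x', hx', y', e.trans (congrArg (x' ≫ (stage h hK (j + 1)).f + ·)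
        (congrArg (CategoryStruct.comp y') (res_d h hK j).symm))⟩
    have hmono : Mono (HomologicalComplex.homologyMap (resι h hK) (j + 1)) := by
      rw [HomologicalComplex.mono_homologyMap_iff_up_to_refinements _ j (j + 1) (j + 2) (by simp)
        (by simp)]
      intro W x hx y hy
      rw [res_d] at hy
      obtain ⟨W', p, hp, x', hx'⟩ := (stage h hK (j + 1)).inv x y hx hy
      exact ⟨W', p, hp, x', hx'⟩
    exact isIso_of_mono_of_epi _

end nat

section int

include h

theorem exists_resolution_strict (K : CochainComplex A ℤ) (a : ℤ) [K.IsStrictlyGE a]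
    (hH : ∀ i, P (K.homology i)) :
    ∃ (L : CochainComplex A ℤ) (α : K ⟶ L), L.IsStrictlyGE a ∧ (∀ n, J (L.X n)) ∧ QuasiIso α := by
  classical
  obtain ⟨e, he⟩ : ∃ e, ComplexShape.embeddingUpIntGE a = e := ⟨_, rfl⟩
  have hs : K.IsStrictlySupported e := by subst he; infer_instance
  have hR : e.IsRelIff := by subst he; infer_instance
  obtain ⟨Z, hZ, hIZ⟩ := h.zero
  have hl : e.HasLift (𝟙 (K.restriction e)) := fun j hj i' hi' => by
    have : IsZero (K.X i') := by
      refine K.isZero_X_of_isStrictlySupported e i' fun j' hj' => ?_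
      subst he
      exact ComplexShape.Embedding.BoundaryGE.notMem hj hi' j' hj'
    exact this.eq_of_src _ _
  have hlift : ∀ n, IsIso ((e.liftExtend (𝟙 (K.restriction e)) hl).f n) := fun n => by
    by_cases h : ∃ k, e.f k = n
    · obtain ⟨k, hk⟩ := h
      rw [e.isIso_liftExtend_f_iff _ _ hk]
      exact inferInstanceAs (IsIso (𝟙 _))
    · push_neg at h
      exact ⟨0, (K.isZero_X_of_isStrictlySupported e n h).eq_of_src _ _,
        (HomologicalComplex.isZero_extend_X _ e n h).eq_of_src _ _⟩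
  have : IsIso (e.liftExtend (𝟙 (K.restriction e)) hl) := HomologicalComplex.Hom.isIso_of_components _
  have hK₀ : ∀ j, P ((K.restriction e).homology j) := fun j =>
    h.iso (HomologicalComplex.extendHomologyIso (K.restriction e) e (j' := e.f j) rfl)
      (h.iso ((HomologicalComplex.homologyFunctor A _ (e.f j)).mapIso
        (asIso (e.liftExtend (𝟙 (K.restriction e)) hl))) (hH _))
  let R := res h hK₀
  let r : ℤ → A := fun n => if h : ∃ k, e.f k = n then R.X h.choose else Z
  have hr : ∀ n, Nonempty (r n ≅ (R.extend e).X n) := fun n => by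
    by_cases h : ∃ k, e.f k = n
    · exact ⟨eqToIso (dif_pos h) ≪≫ (R.extendXIso e h.choose_spec).symm⟩
    · exact ⟨eqToIso (dif_neg h) ≪≫ hZ.iso (HomologicalComplex.isZero_extend_X _ e n (by simpa using h))⟩
  let φ : ∀ n, r n ≅ (R.extend e).X n := fun n => (hr n).some
  let L : CochainComplex A ℤ :=
    { X := r
      d := fun i j => (φ i).hom ≫ (R.extend e).d i j ≫ (φ j).inv
      shape := fun i j hij => by rw [(R.extend e).shape i j hij, zero_comp, comp_zero]
      d_comp_d' := fun i j k _ _ => by simp }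
  let ψ : R.extend e ≅ L := HomologicalComplex.Hom.isoOfComponents (fun n => (φ n).symm)
    (fun i j _ => by simp [L])
  refine ⟨L, e.liftExtend (𝟙 (K.restriction e)) hl ≫
    HomologicalComplex.extendMap (resι h hK₀) e ≫ ψ.hom, ?_, fun n => ?_, ?_⟩
  · rw [CochainComplex.isStrictlyGE_iff]
    intro n hn
    refine (HomologicalComplex.isZero_extend_X R e n ?_).of_iso (φ n)
    intro k hk
    subst he
    simp only [ComplexShape.embeddingUpIntGE_f] at hk
    lia
  · change J (r n)
    by_cases h' : ∃ k, e.f k = n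
    · simp only [r, dif_pos h']; exact res_mem h hK₀ _
    · simp only [r, dif_neg h']; exact hIZ
  · have := quasiIso_resι h hK₀
    have : QuasiIso (HomologicalComplex.extendMap (resι h hK₀) e) := by
      rw [HomologicalComplex.quasiIso_extendMap_iff]; infer_instance
    infer_instance

theorem exists_resolution (K : CochainComplex A ℤ) (a : ℤ) [K.IsGE a] (hH : ∀ i, P (K.homology i)) :
    ∃ (L : CochainComplex A ℤ) (α : K ⟶ L), L.IsStrictlyGE a ∧ (∀ n, J (L.X n)) ∧ QuasiIso α := by
  obtain ⟨L, α, h1, h2, h4⟩ := exists_resolution_strict h (K.truncGE a) a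
    (fun i => h.iso (isoOfQuasiIsoAt (K.πTruncGE a) i) (hH i))
  exact ⟨L, K.πTruncGE a ≫ α, h1, h2, inferInstance⟩

end int

end Groth.Agent.SubRes8
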