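import Groth.Agent.Lib.SubRes8.Basic
import Groth.Agent.Lib.ClassRes.Dual
import Mathlib.CategoryTheory.ObjectProperty.FullSubcategory
import Mathlib.CategoryTheory.Limits.Shapes.Opposites.Kernels

/-!
Resolutions on the left, and transfer of complexes with terms in an essential image.
-/

set_option autoImplicit false
set_option backward.isDefEq.respectTransparency false
set_option backward.isDefEq.respectTransparency.types false

universe v' u' v u

open CategoryTheory CategoryTheory.Limits Opposite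

namespace Groth.Agent.SubRes8

variable {A : Type u} [Category.{v} A] [Abelian A]

/-- Homology of the dual complex. -/
noncomputable def dualHomologyIso (K : CochainComplex A ℤ) (n : ℤ) :
    (ClassRes.dual K).homology n ≅ op (K.homology (-n)) :=
  (ClassRes.dual K).homologyIsoSc' (n - 1) n (n + 1) (by simp) (by simp) ≪≫
    (K.sc' (-(n + 1)) (-n) (-(n - 1))).homologyOpIso ≪≫
    (K.homologyIsoSc' (-(n + 1)) (-n) (-(n - 1)) (by simp; omega) (by simp; omega)).op

/-- Left resolutions. -/
theorem exists_leftResolution {P J : A → Prop}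
    (hiso : ∀ ⦃X Y : A⦄, (X ≅ Y) → P X → P Y)
    (hker : ∀ ⦃X Y : A⦄ (f : X ⟶ Y), P X → P Y → P (kernel f))
    (hext : ∀ S : ShortComplex A, S.ShortExact → P S.X₁ → P S.X₃ → P S.X₂)
    (hle : ∀ ⦃X : A⦄, J X → P X)
    (hcov : ∀ ⦃X Y : A⦄ (π : X ⟶ Y), Epi π → P Y → ∃ (X' : A) (i : X' ⟶ X), J X' ∧ Epi (i ≫ π))
    (hzero : ∃ Z : A, IsZero Z ∧ J Z)
    (K : CochainComplex A ℤ) (b : ℤ) [K.IsLE b] (hH : ∀ i, P (K.homology i)) :
    ∃ (Q : CochainComplex A ℤ) (α : Q ⟶ K), Q.IsStrictlyLE b ∧ (∀ n, J (Q.X n)) ∧ QuasiIso α := by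
  obtain ⟨Z, hZ, hJZ⟩ := hzero
  have h : Setup (fun X : Aᵒᵖ => P X.unop) (fun X : Aᵒᵖ => J X.unop) :=
    { iso := fun X Y e hX => hiso e.unop.symm hX
      coker := fun X Y f hX hY => hiso (kernelUnopOp f).unop.symm (hker f.unop hY hX)
      ext := fun S hS h1 h3 => hext S.unop hS.unop h3 h1
      le := fun X hX => hle hX
      emb := fun Q' Q i hi hQ' => by
        haveI := hi
        obtain ⟨X', j, hX', hj⟩ := hcov i.unop inferInstance hQ'
        haveI := hj
        exact ⟨op X', j.op, hX', inferInstanceAs (Mono (j ≫ i.unop).op)⟩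
      zero := ⟨op Z, hZ.op, hJZ⟩ }
  let K' := K.truncLE b
  have hK' : ∀ i, P (K'.homology i) := fun i => hiso (isoOfQuasiIsoAt (K.ιTruncLE b) i).symm (hH i)
  haveI := ClassRes.isStrictlyGE_dual K' b (-b) (by omega)
  obtain ⟨L, α, h1, h2, h4⟩ := exists_resolution_strict h (ClassRes.dual K') (-b)
    (fun i => hiso (dualHomologyIso K' i).unop (hK' (-i)))
  refine ⟨ClassRes.undual L, (ClassRes.undualMap α ≫ (ClassRes.undualDualIso K').hom) ≫ K.ιTruncLE b,
    ClassRes.isStrictlyLE_undual L b (-b) (by omega), fun n => h2 (-n), ?_⟩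
  haveI := ClassRes.quasiIso_undualMap α
  infer_instance

/-- A complex with terms in the essential image of a fully faithful functor comes from the source. -/
theorem exists_lift_complex {A' : Type u'} [Category.{v'} A'] [Abelian A'] (ι : A' ⥤ A) [ι.Additive]
    [ι.Full] [ι.Faithful] (L : CochainComplex A ℤ) (Q : A' → Prop)
    (hL : ∀ n, ∃ M : A', Q M ∧ Nonempty (ι.obj M ≅ L.X n)) :
    ∃ (I : CochainComplex A' ℤ), (∀ n, Q (I.X n)) ∧
      Nonempty ((ι.mapHomologicalComplex (ComplexShape.up ℤ)).obj I ≅ L) := by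
  choose M hM e using hL
  let φ := fun n => (e n).some
  refine ⟨{ X := M
            d := fun i j => ι.preimage ((φ i).hom ≫ L.d i j ≫ (φ j).inv)
            shape := fun i j hij => ι.map_injective (by
              rw [ι.map_preimage, L.shape i j hij, zero_comp, comp_zero, ι.map_zero])
            d_comp_d' := fun i j k _ _ => ι.map_injective (by
              rw [ι.map_comp, ι.map_preimage, ι.map_preimage, ι.map_zero]; simp) }, hM, ⟨?_⟩⟩
  exact HomologicalComplex.Hom.isoOfComponents φ (fun i j _ => by simp)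

theorem isStrictlyGE_of_map {A' : Type u'} [Category.{v'} A'] [Abelian A'] (ι : A' ⥤ A) [ι.Additive]
    [ι.Faithful] (I : CochainComplex A' ℤ) (a : ℤ)
    [h : CochainComplex.IsStrictlyGE ((ι.mapHomologicalComplex (ComplexShape.up ℤ)).obj I) a] :
    I.IsStrictlyGE a := by
  rw [CochainComplex.isStrictlyGE_iff] at h ⊢
  intro n hn
  rw [IsZero.iff_id_eq_zero]
  exact ι.map_injective ((h n hn).eq_of_src _ _)

theorem isStrictlyLE_of_map {A' : Type u'} [Category.{v'} A'] [Abelian A'] (ι : A' ⥤ A) [ι.Additive]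
    [ι.Faithful] (I : CochainComplex A' ℤ) (a : ℤ)
    [h : CochainComplex.IsStrictlyLE ((ι.mapHomologicalComplex (ComplexShape.up ℤ)).obj I) a] :
    I.IsStrictlyLE a := by
  rw [CochainComplex.isStrictlyLE_iff] at h ⊢
  intro n hn
  rw [IsZero.iff_id_eq_zero]
  exact ι.map_injective ((h n hn).eq_of_src _ _)

end Groth.Agent.SubRes8
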